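import Mathlib
import Cfsg.Agent.S0713
import Cfsg.Agent.Prune
set_option linter.all false
prune_inst 0x7f00000000000000000000000000000000000000000000000000000000000000000000000000000000000000000000000000000000000000000000000000000000000000000000000000000000000000003fffffffffffffffffffffffffffbeffbdffffffff
open scoped Cfsg.Agent.FastGrp

/-!
# Subgroups of prime power index in alternating groups (helper412)

Main results:
* `Cfsg.Agent.H412.AltIndex.card_eq`: a subgroup of `A_n` (`n ≥ 5`) of index `p ^ k`, `k ≥ 1`, has `n = p ^ k`.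
* `Cfsg.Agent.H412.AltIndex.two_transitive`: a group isomorphic to `A_n` (`n ≥ 5`) acting faithfully and
  transitively on `p ^ k` points (`k ≥ 1`) acts 2-transitively, and `n = p ^ k`.
-/

set_option autoImplicit false

namespace Cfsg.Agent.H412.AltIndex

open MulAction Equiv
open scoped Pointwise

/-- If an element of prime order `r` acts non-trivially on a set of fewer than `2r` points in a transitive
group, the action is primitive. -/
theorem isPreprimitive_of_prime {G Ω : Type*} [Group G] [MulAction G Ω] [Finite Ω] [IsPretransitive G Ω]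
    {r : ℕ} (hr : r.Prime) (g : G) (hg : ∀ x : Ω, g ^ r • x = x) {x : Ω} (hx : g • x ≠ x)
    (hc : Nat.card Ω < 2 * r) : IsPreprimitive G Ω := by
  have hxm : Function.minimalPeriod (fun y : Ω => g • y) x = r := by
    have h1 : Function.IsPeriodicPt (fun y : Ω => g • y) r x := by
      unfold Function.IsPeriodicPt Function.IsFixedPt
      rw [smul_iterate]
      exact hg x
    rcases (Nat.dvd_prime hr).1 h1.minimalPeriod_dvd with h | h
    · exact absurd (Function.minimalPeriod_eq_one_iff_isFixedPt.1 h) hx
    · exact h
  apply IsPreprimitive.of_isTrivialBlock_base x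
  intro B hxB hB
  by_contra hnt
  have hfin : B.Finite := Set.toFinite B
  have hBne : B.Nonempty := ⟨x, hxB⟩
  have hmul := hB.ncard_block_mul_ncard_orbit_eq hBne
  have hb2 : 2 ≤ B.ncard := by
    by_contra h
    apply hnt
    left
    have : B.ncard ≤ 1 := by omega
    exact (Set.ncard_le_one hfin).1 this
  have hbn : B.ncard ≠ Nat.card Ω := by
    intro h
    apply hnt
    right
    exact (Set.eq_univ_iff_ncard _).2 h
  have hob2 : 2 ≤ (orbit G B).ncard := by
    rcases Nat.lt_or_ge (orbit G B).ncard 2 with h | h
    · exfalso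
      interval_cases h' : (orbit G B).ncard
      · have : 0 < Nat.card Ω := Nat.card_pos_iff.2 ⟨⟨x⟩, inferInstance⟩
        omega
      · omega
    · exact h
  have hblt : B.ncard < r := by nlinarith only [hc, hmul, hob2]
  have holt : (orbit G B).ncard < r := by nlinarith only [hc, hmul, hb2]
  -- the minimal period of B
  have hBm : Function.minimalPeriod (fun C : Set Ω => g • C) B = 1 := by
    have h1 : Function.IsPeriodicPt (fun C : Set Ω => g • C) r B := by
      unfold Function.IsPeriodicPt Function.IsFixedPt
      rw [smul_iterate]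
      change g ^ r • B = B
      ext y
      rw [Set.mem_smul_set]
      constructor
      · rintro ⟨z, hz, rfl⟩
        rwa [hg z]
      · intro hy
        exact ⟨y, hy, hg y⟩
    rcases (Nat.dvd_prime hr).1 h1.minimalPeriod_dvd with h | h
    · exact h
    · exfalso
      have hinj := Function.iterate_injOn_Iio_minimalPeriod (f := (fun C : Set Ω => g • C)) (x := B)
      rw [h] at hinj
      have hsub : (fun n : ℕ => (fun C : Set Ω => g • C)^[n] B) '' Set.Iio r ⊆ orbit G B := by
        rintro _ ⟨n, -, rfl⟩
        simp only [smul_iterate]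
        exact mem_orbit _ _
      have h2 := Set.ncard_le_ncard hsub (Set.toFinite _)
      rw [Set.InjOn.ncard_image hinj] at h2
      simp at h2
      omega
  have hgB : g • B = B := Function.minimalPeriod_eq_one_iff_isFixedPt.1 hBm
  have hinj := Function.iterate_injOn_Iio_minimalPeriod (f := (fun y : Ω => g • y)) (x := x)
  rw [hxm] at hinj
  have hsub : (fun n : ℕ => (fun y : Ω => g • y)^[n] x) '' Set.Iio r ⊆ B := by
    rintro _ ⟨n, -, rfl⟩
    simp only [smul_iterate]
    have : ∀ m : ℕ, g ^ m • x ∈ B := by
      intro m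
      induction m with
      | zero => simpa using hxB
      | succ m ih =>
        rw [pow_succ', mul_smul]
        rw [← hgB]
        exact Set.smul_mem_smul_set ih
    exact this n
  have h2 := Set.ncard_le_ncard hsub hfin
  rw [Set.InjOn.ncard_image hinj] at h2
  simp at h2
  omega

/-- If `|G : H|` is prime to the prime `r`, every `r`-element of `G` has a conjugate in `H`. -/
theorem exists_conj_mem {G : Type*} [Group G] [Finite G] (H : Subgroup G) {r : ℕ} (hr : r.Prime)
    (hi : ¬ r ∣ H.index) (g : G) {m : ℕ} (hg : g ^ r ^ m = 1) : ∃ x : G, x⁻¹ * g * x ∈ H := by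
  have : Fact r.Prime := ⟨hr⟩
  have hP : IsPGroup r (Subgroup.zpowers g) := by
    rintro ⟨y, hy⟩
    obtain ⟨j, rfl⟩ := Subgroup.mem_zpowers_iff.1 hy
    refine ⟨m, ?_⟩
    ext
    simp only [SubmonoidClass.mk_pow, Subgroup.coe_one]
    rw [← zpow_natCast, ← zpow_mul, mul_comm, zpow_mul, zpow_natCast, hg, one_zpow]
  have hc : ¬ r ∣ Nat.card (G ⧸ H) := hi
  obtain ⟨q, hq⟩ := hP.nonempty_fixed_point_of_prime_not_dvd_card (G ⧸ H) hc
  induction q using QuotientGroup.induction_on with
  | H x =>
    refine ⟨x, ?_⟩
    have h1 := hq ⟨g, Subgroup.mem_zpowers g⟩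
    have h2 : ((g * x : G) : G ⧸ H) = (x : G ⧸ H) := h1
    rw [QuotientGroup.eq] at h2
    have h3 := H.inv_mem h2
    simpa only [mul_assoc, _root_.mul_inv_rev, _root_.inv_inv] using h3

variable {α : Type*} [Fintype α] [DecidableEq α]

/-- A proper subgroup of the alternating group of degree `n ≥ 5` has index at least `n`. -/
theorem card_le_index (hn : 5 ≤ Nat.card α) (H : Subgroup (alternatingGroup α)) (hH : H ≠ ⊤) :
    Nat.card α ≤ H.index := by
  have : Nontrivial α := Finite.one_lt_card_iff_nontrivial.1 (by omega)
  have hs : IsSimpleGroup (alternatingGroup α) := alternatingGroup.isSimpleGroup hn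
  by_contra hlt
  push Not at hlt
  let f := MulAction.toPermHom (alternatingGroup α) (alternatingGroup α ⧸ H)
  have hker : f.ker = ⊥ := by
    rcases hs.eq_bot_or_eq_top_of_normal f.ker inferInstance with h | h
    · exact h
    · exfalso
      apply hH
      rw [eq_top_iff]
      intro g _
      have h1 : g ∈ f.ker := by rw [h]; trivial
      have h2 : f g = 1 := h1
      have h3 := congrArg (fun e : Perm _ => e ((1 : alternatingGroup α) : alternatingGroup α ⧸ H)) h2
      have h4 : ((g * 1 : alternatingGroup α) : alternatingGroup α ⧸ H)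
        = ((1 : alternatingGroup α) : alternatingGroup α ⧸ H) := h3
      rw [QuotientGroup.eq] at h4
      simpa using H.inv_mem h4
  have hinj : Function.Injective f := (MonoidHom.ker_eq_bot_iff f).1 hker
  have : Finite (alternatingGroup α ⧸ H) := inferInstance
  have h1 := Subgroup.card_dvd_of_injective f hinj
  rw [Nat.card_perm] at h1
  have h2 := Nat.le_of_dvd (Nat.factorial_pos _) h1
  have h3 := two_mul_nat_card_alternatingGroup (α := α)
  have h5 : Nat.card (alternatingGroup α ⧸ H) = H.index := rfl
  rw [h5] at h2
  rw [Nat.card_perm] at h3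
  obtain ⟨m, hm⟩ : ∃ m, Nat.card α = m + 1 := ⟨Nat.card α - 1, by omega⟩
  have h6 : (H.index).factorial ≤ m.factorial := Nat.factorial_le (by omega)
  rw [hm, Nat.factorial_succ] at h3
  have h7 : 0 < m.factorial := Nat.factorial_pos _
  nlinarith only [hn, h2, h3, hm, h6, h7]

theorem lt_choose : ∀ n a : ℕ, 5 ≤ n → 2 ≤ a → a + 2 ≤ n → n < n.choose a := by
  intro n
  induction n with
  | zero => intro a h; omega
  | succ n ih =>
    intro a hn h2 ha
    rcases Nat.lt_or_ge n 5 with h5 | h5
    · have : n = 4 := by omega
      subst this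
      have : a = 2 ∨ a = 3 := by omega
      rcases this with rfl | rfl <;> decide
    · obtain ⟨b, rfl⟩ : ∃ b, a = b + 1 := ⟨a - 1, by omega⟩
      rw [Nat.choose_succ_succ]
      rcases Nat.lt_or_ge b 2 with hb | hb
      · have hb1 : b = 1 := by omega
        subst hb1
        have := ih 2 h5 le_rfl (by omega)
        simp at this ⊢
        omega
      · have h1 := ih b h5 hb (by omega)
        have h3 : 0 < n.choose (b + 1) := Nat.choose_pos (by omega)
        simp only [Nat.succ_eq_add_one]
        omega

/-- A subgroup of `A_n` of index a power of `p` which is not transitive fixes a point. -/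
theorem exists_fixed (hn : 5 ≤ Nat.card α) (H : Subgroup (alternatingGroup α)) {p k : ℕ}
    (hp : p.Prime) (hi : H.index = p ^ k) (ht : ¬ IsPretransitive H α) :
    ∃ x : α, H ≤ MulAction.stabilizer (alternatingGroup α) x := by
  have : Nontrivial α := Finite.one_lt_card_iff_nontrivial.1 (by omega)
  obtain ⟨x0⟩ : Nonempty α := inferInstance
  set s : Set α := orbit H x0 with hs
  have hsne : s ≠ Set.univ := by
    intro h
    apply ht
    exact (isPretransitive_iff_orbit_eq_univ x0).2 h
  set a := s.ncard with ha
  have ha1 : 1 ≤ a := by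
    have : 0 < s.ncard := (Set.ncard_pos (Set.toFinite s)).2 ⟨x0, mem_orbit_self _⟩
    omega
  have han : a < Nat.card α := by
    rw [ha, ← Set.ncard_univ]
    exact Set.ncard_lt_ncard (Set.ssubset_univ_iff.2 hsne)
  let S : Set.powersetCard α a := ⟨(Set.toFinite s).toFinset, by
    rw [Set.powersetCard.mem_iff]
    rw [ha, Set.ncard_eq_toFinset_card s]⟩
  have hpt : IsPretransitive (alternatingGroup α) (Set.powersetCard α a) :=
    Set.powersetCard.isPretransitive_alternatingGroup (by omega)
  have hidx : (stabilizer (alternatingGroup α) S).index = (Nat.card α).choose a := by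
    rw [index_stabilizer_of_transitive, Set.powersetCard.card]
  have hHS : H ≤ stabilizer (alternatingGroup α) S := by
    intro h hh
    have hSs : ((S : Set.powersetCard α a) : Set α) = s := by
      ext y
      change y ∈ (Set.toFinite s).toFinset ↔ y ∈ s
      simp
    have h5 : (h : Equiv.Perm α) ∈ stabilizer (Equiv.Perm α) S := by
      rw [Set.powersetCard.stabilizer_coe, mem_stabilizer_iff, hSs]
      exact smul_orbit (⟨h, hh⟩ : H) x0
    exact h5
  have hdvd : (Nat.card α).choose a ∣ p ^ k := by
    rw [← hidx, ← hi]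
    exact Subgroup.index_dvd_of_le hHS
  obtain ⟨j, -, hj⟩ := (Nat.dvd_prime_pow hp).1 hdvd
  have hle : (Nat.card α).choose a ≤ Nat.card α := by
    have h1 := Nat.pow_factorization_choose_le (n := Nat.card α) (k := a) (p := p) (by omega)
    rw [hj, hp.factorization_pow, Finsupp.single_eq_same] at h1
    rwa [hj]
  have hcase : a = 1 ∨ a + 1 = Nat.card α := by
    by_contra hcon
    push Not at hcon
    have := lt_choose (Nat.card α) a hn (by omega) (by omega)
    omega
  rcases hcase with h1 | h1
  · obtain ⟨y, hy⟩ := Set.ncard_eq_one.1 (ha.symm.trans h1)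
    refine ⟨y, fun h hh => ?_⟩
    rw [mem_stabilizer_iff]
    have hy1 : y ∈ orbit H x0 := by rw [← hs, hy]; rfl
    have h2 : (⟨h, hh⟩ : H) • y ∈ orbit H x0 := by
      rw [← orbit_eq_iff.2 hy1]
      exact mem_orbit _ _
    rw [← hs, hy] at h2
    exact h2
  · have h2 : sᶜ.ncard = 1 := by
      have := Set.ncard_add_ncard_compl s
      omega
    obtain ⟨y, hy⟩ := Set.ncard_eq_one.1 h2
    refine ⟨y, fun h hh => ?_⟩
    rw [mem_stabilizer_iff]
    have hy1 : y ∉ orbit H x0 := by
      have : y ∈ sᶜ := by rw [hy]; rfl
      exact this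
    have h3 : (⟨h, hh⟩ : H) • y ∈ sᶜ := by
      intro h4
      apply hy1
      have h5 : (⟨h, hh⟩ : H)⁻¹ • ((⟨h, hh⟩ : H) • y) ∈ orbit H x0 := by
        rw [← orbit_eq_iff.2 h4]
        exact mem_orbit _ _
      rwa [inv_smul_smul] at h5
    rw [hy] at h3
    exact h3

/-- Valuation: a prime `p` with `n < 2p` divides `n!` at most once. -/
theorem exp_le_one {n p k : ℕ} (hp : p.Prime) (hn : n < 2 * p) (h : p ^ k ∣ n.factorial) : k ≤ 1 := by
  have hlog : Nat.log p n < 2 := by
    apply Nat.log_lt_of_lt_pow' (by norm_num)
    have := hp.two_le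
    nlinarith
  have h1 := (hp.pow_dvd_factorial_iff hlog).1 h
  have h2 : Finset.Ico 1 2 = {1} := by decide
  rw [h2, Finset.sum_singleton, pow_one] at h1
  have h3 : n / p < 2 := Nat.div_lt_of_lt_mul (by omega)
  omega

/-- Point stabilisers: if `H` of index `p ^ k` in `A_n` fixes `x`, then either `n = p ^ k` or
`A_(n-1)` on the remaining points has a subgroup of index `p ^ j`, `j ≥ 1`, and `n` is a power of `p`. -/
theorem descend (hn : 5 ≤ Nat.card α) (H : Subgroup (alternatingGroup α)) {p k : ℕ}
    (hp : p.Prime) (hi : H.index = p ^ k) (x : α)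
    (hx : H ≤ MulAction.stabilizer (alternatingGroup α) x) :
    ∃ i j : ℕ, Nat.card α = p ^ i ∧ i + j = k ∧
      ∃ H' : Subgroup (alternatingGroup {y : α // y ≠ x}), H'.index = p ^ j := by
  classical
  have : Nontrivial α := Finite.one_lt_card_iff_nontrivial.1 (by omega)
  have hpt : IsPretransitive (alternatingGroup α) α :=
    alternatingGroup.isPretransitive_of_three_le_card α (by omega)
  have h1 : (stabilizer (alternatingGroup α) x).index = Nat.card α :=
    index_stabilizer_of_transitive _ _
  have h2 := Subgroup.relIndex_mul_index hx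
  rw [h1, hi] at h2
  obtain ⟨i, hik, hin⟩ := (Nat.dvd_prime_pow hp).1 (Dvd.intro_left _ h2)
  refine ⟨i, k - i, hin, by omega, ?_⟩
  have h3 : H.relIndex (stabilizer (alternatingGroup α) x) = p ^ (k - i) := by
    rw [hin] at h2
    have h4 : p ^ k = p ^ (k - i) * p ^ i := by
      rw [← pow_add]
      congr 1
      omega
    rw [h4] at h2
    exact Nat.eq_of_mul_eq_mul_right (pow_pos hp.pos _) h2
  -- the embedding of the alternating group on the remaining points
  let φ : alternatingGroup {y : α // y ≠ x} →* alternatingGroup α :=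
    ((Equiv.Perm.ofSubtype (p := fun y => y ≠ x)).comp
      (alternatingGroup {y : α // y ≠ x}).subtype).codRestrict (alternatingGroup α) (by
        intro g
        have hg : Equiv.Perm.sign (g : Equiv.Perm {y : α // y ≠ x}) = 1 := g.2
        change Equiv.Perm.sign (Equiv.Perm.ofSubtype (g : Equiv.Perm {y : α // y ≠ x})) = 1
        rw [Equiv.Perm.sign_ofSubtype]
        exact hg)
  have hφ : φ.range = stabilizer (alternatingGroup α) x := by
    ext g
    constructor
    · rintro ⟨y, rfl⟩
      rw [mem_stabilizer_iff]
      change Equiv.Perm.ofSubtype (y : Equiv.Perm {y : α // y ≠ x}) x = x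
      exact Equiv.Perm.ofSubtype_apply_of_not_mem _ (by simp)
    · intro hg
      have hg1 : (g : Equiv.Perm α) x = x := hg
      have hg2 : ∀ y, (g : Equiv.Perm α) y ≠ x ↔ y ≠ x := by
        intro y
        constructor
        · rintro h rfl
          exact h hg1
        · intro h h'
          apply h
          exact (g : Equiv.Perm α).injective (h'.trans hg1.symm)
      have hg3 : Equiv.Perm.ofSubtype
          (Equiv.Perm.subtypePerm (p := fun y => y ≠ x) (g : Equiv.Perm α) hg2)
          = (g : Equiv.Perm α) := by
        apply Equiv.Perm.ofSubtype_subtypePerm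
        intro y hy hyx
        subst hyx
        exact hy hg1
      refine ⟨⟨Equiv.Perm.subtypePerm (p := fun y => y ≠ x) (g : Equiv.Perm α) hg2, ?_⟩, ?_⟩
      · rw [Equiv.Perm.mem_alternatingGroup, ← Equiv.Perm.sign_ofSubtype, hg3]
        exact g.2
      · apply Subtype.ext
        exact hg3
  refine ⟨H.comap φ, ?_⟩
  rw [Subgroup.index_comap, hφ]
  exact h3

/-- The alternating group contains an `r`-cycle for odd `r ≥ 3`, `r ≤ n`. -/
theorem exists_cycle {r : ℕ} (hr3 : 3 ≤ r) (hodd : Odd r) (hrn : r ≤ Fintype.card α) :
    ∃ g : alternatingGroup α, (g : Equiv.Perm α).IsCycle ∧ (g : Equiv.Perm α).support.card = r := by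
  obtain ⟨g, hg⟩ := (Equiv.Perm.exists_with_cycleType_iff (α := α) (m := {r})).2 (by
    constructor
    · simpa only [_root_.Multiset.sum_singleton] using hrn
    · intro a ha
      rw [Multiset.mem_singleton] at ha
      omega)
  have hc : g.IsCycle := by
    rw [← Equiv.Perm.card_cycleType_eq_one, hg]
    simp
  have hs : g.support.card = r := by
    have := hc.cycleType
    rw [hg] at this
    simpa using this.symm
  refine ⟨⟨g, ?_⟩, hc, hs⟩
  rw [Equiv.Perm.mem_alternatingGroup, hc.sign, hs, hodd.neg_one_pow]
  simp

/-- A primitive subgroup of `A_n` of index `p ^ k`, where an odd prime `r ≠ p` has `r + 3 ≤ n`, is everything. -/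
theorem eq_top_of_prim (H : Subgroup (alternatingGroup α)) {p k r : ℕ} (hp : p.Prime)
    (hi : H.index = p ^ k) (hprim : IsPreprimitive H α) (hr : r.Prime) (hr3 : 3 ≤ r) (hrp : r ≠ p)
    (hrn : r + 3 ≤ Fintype.card α) : H = ⊤ := by
  have hodd : Odd r := hr.odd_of_ne_two (by omega)
  obtain ⟨g, hgc, hgs⟩ := exists_cycle (α := α) hr3 hodd (by omega)
  have hgr : g ^ r ^ 1 = 1 := by
    rw [pow_one]
    apply Subtype.ext
    rw [Subgroup.coe_pow, Subgroup.coe_one, ← hgs, ← hgc.orderOf]
    exact pow_orderOf_eq_one _
  obtain ⟨x, hx⟩ := exists_conj_mem H hr (by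
    rw [hi]
    intro h
    exact hrp ((Nat.prime_dvd_prime_iff_eq hr hp).1 (hr.dvd_of_dvd_pow h))) g hgr
  let K : Subgroup (Equiv.Perm α) := H.map (alternatingGroup α).subtype
  have hK : IsPreprimitive K α := by
    let f : H →* K := (alternatingGroup α).subtype.subgroupMap H
    let φ : α →ₑ[f] α := ⟨id, fun m y => rfl⟩
    exact IsPreprimitive.of_surjective (f := φ) Function.surjective_id
  have hcyc : ((x⁻¹ * g * x : alternatingGroup α) : Equiv.Perm α).IsCycle := by
    have := hgc.conj (g := ((x : Equiv.Perm α))⁻¹)
    simpa only [_root_.Subgroup.coe_mul, _root_.InvMemClass.coe_inv, _root_.inv_inv] using this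
  have hcs : ((x⁻¹ * g * x : alternatingGroup α) : Equiv.Perm α).support.card = r := by
    rw [← hcyc.orderOf]
    have h1 : ((x⁻¹ * g * x : alternatingGroup α) : Equiv.Perm α)
        = (MulAut.conj ((x : Equiv.Perm α)⁻¹)) (g : Equiv.Perm α) := by
      simp only [_root_.Subgroup.coe_mul, _root_.InvMemClass.coe_inv, _root_.map_inv, _root_.MulAut.inv_apply, _root_.MulAut.conj_symm_apply]
    rw [h1, MulEquiv.orderOf_eq, hgc.orderOf, hgs]
  have hA := Cfsg.Agent.S0713.result K hK hr (by omega) (by omega) hcyc hcs
    ⟨x⁻¹ * g * x, hx, rfl⟩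
  rw [eq_top_iff]
  intro y _
  obtain ⟨z, hz, hzy⟩ := hA y.2
  have : z = y := Subtype.ext hzy
  rwa [← this]

/-- The alternating groups of degree 6 and 7 have no subgroup of index 9. -/
theorem no_index_nine (hn : 6 ≤ Nat.card α) (hn' : Nat.card α ≤ 7) (H : Subgroup (alternatingGroup α))
    (hi : H.index = 9) : False := by
  classical
  have : Nontrivial α := Finite.one_lt_card_iff_nontrivial.1 (by omega)
  have hs : IsSimpleGroup (alternatingGroup α) := alternatingGroup.isSimpleGroup (by omega)
  let Ω := alternatingGroup α ⧸ H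
  have hΩ : Nat.card Ω = 9 := hi
  have : Finite Ω := Nat.finite_of_card_ne_zero (by omega)
  have : Fintype Ω := Fintype.ofFinite Ω
  let f := MulAction.toPermHom (alternatingGroup α) Ω
  have hker : f.ker = ⊥ := by
    rcases hs.eq_bot_or_eq_top_of_normal f.ker inferInstance with h | h
    · exact h
    · exfalso
      have h9 : H ≠ ⊤ := by
        intro h
        rw [h, Subgroup.index_top] at hi
        omega
      apply h9
      rw [eq_top_iff]
      intro g _
      have h1 : g ∈ f.ker := by rw [h]; trivial
      have h2 : f g = 1 := h1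
      have h3 := congrArg (fun e : Perm _ => e ((1 : alternatingGroup α) : alternatingGroup α ⧸ H)) h2
      have h4 : ((g * 1 : alternatingGroup α) : alternatingGroup α ⧸ H)
        = ((1 : alternatingGroup α) : alternatingGroup α ⧸ H) := h3
      rw [QuotientGroup.eq] at h4
      simpa using H.inv_mem h4
  have hinj : Function.Injective f := (MonoidHom.ker_eq_bot_iff f).1 hker
  obtain ⟨g, hgc, hgs⟩ := exists_cycle (α := α) (r := 5) (by norm_num) (by decide)
    (by rw [← Nat.card_eq_fintype_card]; omega)
  have hg5 : orderOf g = 5 := by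
    rw [← Subgroup.orderOf_coe, hgc.orderOf, hgs]
  have hfg5 : orderOf (f g) = 5 := by
    rw [orderOf_injective f hinj, hg5]
  have hfne : f g ≠ 1 := by
    intro h
    rw [h, orderOf_one] at hfg5
    omega
  obtain ⟨x, hx⟩ : ∃ x : Ω, g • x ≠ x := by
    by_contra hcon
    push Not at hcon
    apply hfne
    exact Equiv.ext hcon
  have hprim : IsPreprimitive (alternatingGroup α) Ω :=
    isPreprimitive_of_prime (r := 5) (by norm_num) g (by
      intro y
      rw [← hg5, pow_orderOf_eq_one, one_smul]) hx (by omega)
  have hcyc : (f g).IsCycle := by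
    apply Equiv.Perm.isCycle_of_prime_order'
    · rw [hfg5]; norm_num
    · rw [← Nat.card_eq_fintype_card, hfg5, hΩ]
      norm_num
  have hprim2 : IsPreprimitive f.range Ω := by
    let φ : Ω →ₑ[f.rangeRestrict] Ω := ⟨id, fun m y => rfl⟩
    exact IsPreprimitive.of_surjective (f := φ) Function.surjective_id
  have hA := Cfsg.Agent.S0713.result f.range hprim2 (p := 5) (by norm_num)
    (by rw [← Nat.card_eq_fintype_card, hΩ]; norm_num)
    (by rw [← Nat.card_eq_fintype_card, hΩ]; norm_num) hcyc (by rw [← hcyc.orderOf, hfg5]) ⟨g, rfl⟩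
  have h1 := Subgroup.card_le_of_le hA
  have h2 : Nat.card f.range = Nat.card (alternatingGroup α) :=
    Nat.card_congr (MonoidHom.ofInjective hinj).toEquiv.symm
  have h3 := two_mul_nat_card_alternatingGroup (α := α)
  have hΩn : Nontrivial Ω := ⟨g • x, x, hx⟩
  have h4 := two_mul_nat_card_alternatingGroup (α := Ω)
  rw [Nat.card_perm] at h3 h4
  rw [hΩ] at h4
  have h5 : (Nat.card α).factorial ≤ Nat.factorial 7 := Nat.factorial_le hn'
  have h6 : Nat.factorial 7 < Nat.factorial 9 := by decide
  omega

/-- **Prime power index in alternating groups**: a subgroup of `A_n` (`n ≥ 5`) of index `p ^ k`, `k ≥ 1`,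
has `n = p ^ k`. -/
theorem card_eq {p : ℕ} (hp : p.Prime) : ∀ (n : ℕ) (α : Type _) [Fintype α] [DecidableEq α]
    (k : ℕ) (H : Subgroup (alternatingGroup α)), Nat.card α = n → 5 ≤ n → 1 ≤ k → H.index = p ^ k →
      n = p ^ k := by
  intro n
  induction n with
  | zero => intro α _ _ k H _ h5; omega
  | succ n ih =>
    intro α _ _ k H hα h5 hk hi
    have hn5 : 5 ≤ Nat.card α := by omega
    have : Nontrivial α := Finite.one_lt_card_iff_nontrivial.1 (by omega)
    have hHtop : H ≠ ⊤ := by
      intro h
      rw [h, Subgroup.index_top] at hi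
      have := Nat.one_lt_pow (by omega : k ≠ 0) hp.one_lt
      omega
    have hle := card_le_index hn5 H hHtop
    have hcard := two_mul_nat_card_alternatingGroup (α := α)
    rw [Nat.card_perm, hα] at hcard
    have hdvd : p ^ k ∣ (n + 1).factorial := by
      rw [← hcard, ← hi]
      exact Dvd.dvd.mul_left (Subgroup.index_dvd_card H) 2
    have hpn : p ≤ n + 1 := (hp.dvd_factorial).1 (dvd_trans (dvd_pow_self p (by omega)) hdvd)
    rcases Nat.lt_or_ge (n + 1) (2 * p) with h2p | h2p
    · have hk1 := exp_le_one hp h2p hdvd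
      have : k = 1 := by omega
      subst this
      rw [pow_one] at hi ⊢
      omega
    -- now `2p ≤ n + 1`
    have hn6 : 6 ≤ n + 1 := by
      by_contra h
      have hn4 : n = 4 := by omega
      subst hn4
      have hp2 : p = 2 := by
        have := hp.two_le
        omega
      subst hp2
      have h1 : 2 ^ k ∣ 60 := by
        have h2 : Nat.card (alternatingGroup α) = 60 := by
          have : Nat.factorial (4 + 1) = 120 := by decide
          omega
        rw [← h2, ← hi]
        exact Subgroup.index_dvd_card H
      have h3 : k ≤ 2 := by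
        by_contra h4
        have h5 : 2 ^ 3 ∣ 60 := dvd_trans (pow_dvd_pow 2 (by omega)) h1
        revert h5
        decide
      have h6 : 2 ^ k ≤ 2 ^ 2 := Nat.pow_le_pow_right (by norm_num) h3
      omega
    by_cases ht : IsPretransitive H α
    · exfalso
      -- Bertrand
      obtain ⟨r, hr, hr1, hr2⟩ := Nat.exists_prime_lt_and_le_two_mul ((n + 1) / 2) (by omega)
      have hrn : r ≤ n + 1 := by omega
      have hnr : n + 1 < 2 * r := by omega
      have hrp : r ≠ p := by omega
      have hrH : r ∣ Nat.card H := by
        have h1 : r ∣ 2 * Nat.card (alternatingGroup α) := by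
          rw [hcard]
          exact hr.dvd_factorial.2 hrn
        have h2 : Nat.card (alternatingGroup α) = Nat.card H * p ^ k := by
          rw [← hi]
          exact (Subgroup.card_mul_index H).symm
        rw [h2] at h1
        rcases hr.dvd_mul.1 h1 with h3 | h3
        · have := Nat.le_of_dvd (by norm_num) h3
          omega
        · rcases hr.dvd_mul.1 h3 with h4 | h4
          · exact h4
          · exact absurd ((Nat.prime_dvd_prime_iff_eq hr hp).1 (hr.dvd_of_dvd_pow h4)) hrp
      have : Fact r.Prime := ⟨hr⟩
      obtain ⟨g, hg⟩ := exists_prime_orderOf_dvd_card' r hrH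
      have hprim : IsPreprimitive H α := by
        have hgne : ((g : alternatingGroup α) : Equiv.Perm α) ≠ 1 := by
          intro h
          have : g = 1 := by
            apply Subtype.ext
            apply Subtype.ext
            exact h
          rw [this, orderOf_one] at hg
          exact hr.one_lt.ne hg
        obtain ⟨x, hx⟩ : ∃ x : α, ((g : alternatingGroup α) : Equiv.Perm α) x ≠ x := by
          by_contra hcon
          push Not at hcon
          exact hgne (Equiv.ext hcon)
        refine isPreprimitive_of_prime hr g (fun y => ?_) (x := x) hx (by omega)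
        rw [← hg, pow_orderOf_eq_one, one_smul]
      by_cases hp3 : p = 3
      · subst hp3
        rcases Nat.lt_or_ge (n + 1) 8 with h8 | h8
        · -- index 9 in A_6, A_7
          have hk2 : k ≤ 2 := by
            have h1 : 3 ^ k ∣ Nat.factorial 7 :=
              dvd_trans hdvd (Nat.factorial_dvd_factorial (by omega))
            by_contra h4
            have h5 : 3 ^ 3 ∣ Nat.factorial 7 := dvd_trans (pow_dvd_pow 3 (by omega)) h1
            revert h5
            decide
          have hk2' : k = 2 := by
            by_contra h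
            have : k = 1 := by omega
            subst this
            omega
          subst hk2'
          exact no_index_nine (by omega) (by omega) H (by omega)
        · apply hHtop
          exact eq_top_of_prim H hp hi hprim (r := 5) (by norm_num) (by norm_num) (by norm_num)
            (by rw [← Nat.card_eq_fintype_card]; omega)
      · apply hHtop
        exact eq_top_of_prim H hp hi hprim (r := 3) (by norm_num) (by norm_num) (Ne.symm hp3)
          (by rw [← Nat.card_eq_fintype_card]; omega)
    · obtain ⟨x, hx⟩ := exists_fixed hn5 H hp hi ht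
      obtain ⟨i, j, hi1, hij, H', hH'⟩ := descend hn5 H hp hi x hx
      rcases Nat.eq_zero_or_pos j with hj | hj
      · subst hj
        rw [← hij, add_zero, ← hi1, hα]
      · exfalso
        have hβ : Nat.card {y : α // y ≠ x} = n := by
          have h1 : Nat.card {y : α // y ≠ x} = Nat.card α - 1 := by
            rw [Nat.card_eq_fintype_card, Nat.card_eq_fintype_card,
              Fintype.card_subtype_compl, Fintype.card_subtype_eq]
          omega
        have h1 := ih {y : α // y ≠ x} j H' hβ (by omega) hj hH'
        have hi0 : i ≠ 0 := by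
          rintro rfl
          rw [pow_zero] at hi1
          omega
        have h2 : p ∣ n := by rw [h1]; exact dvd_pow_self p (by omega)
        have h3 : p ∣ n + 1 := by rw [← hα, hi1]; exact dvd_pow_self p hi0
        have h4 : p ∣ 1 := (Nat.dvd_add_right h2).1 h3
        exact hp.one_lt.ne' (Nat.dvd_one.1 h4)

/-- A group isomorphic to `A_n`, `n ≥ 5`, with a subgroup of index `p ^ k`, `k ≥ 1`: then `n = p ^ k`. -/
theorem card_eq_of_iso {G : Type*} [Group G] {n : ℕ} (hn : 5 ≤ n)
    (e : G ≃* alternatingGroup (Fin n)) (H : Subgroup G) {p k : ℕ} (hp : p.Prime) (hk : 1 ≤ k)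
    (hi : H.index = p ^ k) : n = p ^ k := by
  refine card_eq hp n (Fin n) k (H.map e.toMonoidHom) (by simp only [_root_.Nat.card_eq_fintype_card, _root_.Fintype.card_fin]) hn hk ?_
  rw [← hi]
  exact Subgroup.index_map_equiv H e

/-- A group isomorphic to `A_n`, `n ≥ 5`, acting faithfully and transitively on `p ^ k` points, `k ≥ 1`:
then `n = p ^ k` and the action is 2-transitive. -/
theorem two_transitive {G Ω : Type*} [Group G] [MulAction G Ω] [FaithfulSMul G Ω] [Finite Ω]
    [IsPretransitive G Ω] {n : ℕ} (hn : 5 ≤ n) (e : G ≃* alternatingGroup (Fin n)) {p k : ℕ}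
    (hp : p.Prime) (hk : 1 ≤ k) (hΩ : Nat.card Ω = p ^ k) :
    n = p ^ k ∧ IsMultiplyPretransitive G Ω 2 := by
  classical
  have : Fintype Ω := Fintype.ofFinite Ω
  have hpos : 0 < Nat.card Ω := by rw [hΩ]; exact pow_pos hp.pos k
  obtain ⟨x⟩ : Nonempty Ω := (Nat.card_pos_iff.1 hpos).1
  have hidx : (stabilizer G x).index = p ^ k := by
    rw [index_stabilizer_of_transitive, hΩ]
  have hnk := card_eq_of_iso hn e (stabilizer G x) hp hk hidx
  refine ⟨hnk, ?_⟩
  have hΩ' : Nat.card Ω = n := by rw [hΩ, hnk]
  have hΩn : Nontrivial Ω := Finite.one_lt_card_iff_nontrivial.1 (by omega)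
  have hFn : Nontrivial (Fin n) := Finite.one_lt_card_iff_nontrivial.1 (by simp only [_root_.Nat.card_eq_fintype_card, _root_.Fintype.card_fin]; omega)
  let f := MulAction.toPermHom G Ω
  have hinj : Function.Injective f := MulAction.toPerm_injective
  have h1 : Nat.card f.range = Nat.card (alternatingGroup (Fin n)) := by
    rw [← Nat.card_congr e.toEquiv]
    exact Nat.card_congr (MonoidHom.ofInjective hinj).toEquiv.symm
  have h2 := two_mul_nat_card_alternatingGroup (α := Fin n)
  have h3 := f.range.card_mul_index
  rw [Nat.card_perm] at h2 h3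
  rw [hΩ'] at h3
  simp only [Nat.card_eq_fintype_card (α := Fin n), Fintype.card_fin] at h2
  rw [h1] at h3
  have hApos : 0 < Nat.card (alternatingGroup (Fin n)) := Nat.card_pos
  have hind : f.range.index = 2 := by
    have : Nat.card (alternatingGroup (Fin n)) * f.range.index
        = Nat.card (alternatingGroup (Fin n)) * 2 := by
      rw [h3, ← h2]; ring
    exact Nat.eq_of_mul_eq_mul_left hApos this
  have hrange := Equiv.Perm.eq_alternatingGroup_of_index_eq_two hind
  have h4 : IsMultiplyPretransitive (alternatingGroup Ω) Ω (Nat.card Ω - 2) :=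
    alternatingGroup.isMultiplyPretransitive Ω
  have h5 : IsMultiplyPretransitive (alternatingGroup Ω) Ω 2 :=
    isMultiplyPretransitive_of_le (n := Nat.card Ω - 2) (by omega) (Nat.sub_le _ _)
  rw [is_two_pretransitive_iff] at h5 ⊢
  intro a b c d hab hcd
  obtain ⟨g, hg1, hg2⟩ := h5 hab hcd
  have hg : (g : Equiv.Perm Ω) ∈ f.range := by rw [hrange]; exact g.2
  obtain ⟨y, hy⟩ := hg
  refine ⟨y, ?_, ?_⟩
  · rw [← hg1]
    change f y a = _
    rw [hy]
    rfl
  · rw [← hg2]
    change f y b = _
    rw [hy]
    rfl

end Cfsg.Agent.H412.AltIndex
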